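import Groth.Prelude.Def_SGA1t
import Groth.Agent.Pi1A.FEtAffine
import Groth.Agent.S0294
import Mathlib.CategoryTheory.Endomorphism

/-!
# Principal covers: base change, transport along isomorphisms, Galois covers are principal
-/

set_option autoImplicit false

universe u v

open CategoryTheory AlgebraicGeometry Limits

namespace Groth.Agent.Pi1.H383.PrincBC

open Groth.Agent.Pi1A.FEtAffine

/-- The base change of an action. -/
noncomputable def bcAction {Y Y' : Scheme.{u}} (h : Y' ⟶ Y) {G : Type v} [Group G] {P : FEt.Cat Y}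
    (ρ : G →* Aut P) : G →* Aut ((FEt.restrict h).obj P) :=
  ((FEt.restrict h).mapAut P).comp ρ

lemma bcAction_hom {Y Y' : Scheme.{u}} (h : Y' ⟶ Y) {G : Type v} [Group G] {P : FEt.Cat Y}
    (ρ : G →* Aut P) (g : G) : (bcAction h ρ g).hom = (FEt.restrict h).map (ρ g).hom := rfl

/-- Principal covers are stable under base change. -/
theorem isPrincipal_bc {Y Y' : Scheme.{u}} (h : Y' ⟶ Y) (G : Type v) [Group G] (P : FEt.Cat Y)
    (ρ : G →* Aut P) (hP : SGA1t.IsPrincipal G P ρ) :
    SGA1t.IsPrincipal G ((FEt.restrict h).obj P) (bcAction h ρ) := by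
  refine ⟨?_, ?_⟩
  · have h1 : Surjective P.hom := ⟨hP.1⟩
    have h2 : Surjective ((FEt.restrict h).obj P).hom :=
      MorphismProperty.of_isPullback (isPullback h P) h1
    exact h2.surj
  · intro Ω _ _ ξ s t
    have hw : ∀ s : FEt.fiberObj ξ ((FEt.restrict h).obj P),
        (s.1 ≫ proj h P) ≫ P.hom = ξ ≫ h := by
      intro s
      rw [Category.assoc, (isPullback h P).w, ← Category.assoc, s.2]
    obtain ⟨g, hg, hu⟩ := hP.2 Ω (ξ ≫ h) ⟨s.1 ≫ proj h P, hw s⟩ ⟨t.1 ≫ proj h P, hw t⟩
    have key : ∀ g : G, (FEt.fiber ξ).map (bcAction h ρ g).hom s = t ↔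
        (s.1 ≫ proj h P) ≫ (ρ g).hom.left = t.1 ≫ proj h P := by
      intro g
      have e1 : (s.1 ≫ ((FEt.restrict h).map (ρ g).hom).left) ≫ proj h P =
          (s.1 ≫ proj h P) ≫ (ρ g).hom.left := by
        rw [Category.assoc, map_left_proj, Category.assoc]
      constructor
      · intro h1
        have h2 : s.1 ≫ ((FEt.restrict h).map (ρ g).hom).left = t.1 := congrArg Subtype.val h1
        rw [← e1, h2]
      · intro h1
        apply Subtype.ext
        change s.1 ≫ ((FEt.restrict h).map (ρ g).hom).left = t.1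
        apply (isPullback h P).hom_ext
        · rw [e1, h1]
        · rw [Category.assoc, hom_w, s.2, t.2]
    refine ⟨g, (key g).mpr (congrArg Subtype.val hg), fun g' hg' => hu g' ?_⟩
    apply Subtype.ext
    exact (key g').mp hg'

/-- The action transported along an isomorphism. -/
noncomputable def conjAction {Y : Scheme.{u}} {G : Type v} [Group G] {P Q : FEt.Cat Y}
    (e : P ≅ Q) (ρ : G →* Aut P) : G →* Aut Q :=
  e.conjAut.toMonoidHom.comp ρ

lemma conjAction_hom {Y : Scheme.{u}} {G : Type v} [Group G] {P Q : FEt.Cat Y}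
    (e : P ≅ Q) (ρ : G →* Aut P) (g : G) :
    (conjAction e ρ g).hom = e.inv ≫ (ρ g).hom ≫ e.hom := by
  change (e.conjAut (ρ g)).hom = _
  rw [Iso.conjAut_apply]
  rfl

/-- Principal covers are stable under isomorphisms. -/
theorem isPrincipal_conj {Y : Scheme.{u}} (G : Type v) [Group G] {P Q : FEt.Cat Y}
    (e : P ≅ Q) (ρ : G →* Aut P) (hP : SGA1t.IsPrincipal G P ρ) :
    SGA1t.IsPrincipal G Q (conjAction e ρ) := by
  have h1 : e.hom.left ≫ e.inv.left = 𝟙 _ := by
    rw [← MorphismProperty.Comma.comp_left, Iso.hom_inv_id]; rfl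
  have h2 : e.inv.left ≫ e.hom.left = 𝟙 _ := by
    rw [← MorphismProperty.Comma.comp_left, Iso.inv_hom_id]; rfl
  have hiso : IsIso e.inv.left := ⟨e.hom.left, h2, h1⟩
  refine ⟨?_, ?_⟩
  · have h3 : e.inv.left ≫ P.hom = Q.hom := hom_w e.inv
    have h4 : Surjective P.hom := ⟨hP.1⟩
    have h5 : Surjective (e.inv.left ≫ P.hom) := inferInstance
    rw [h3] at h5
    exact h5.surj
  · intro Ω _ _ ξ s t
    have hw : ∀ s : FEt.fiberObj ξ Q, (s.1 ≫ e.inv.left) ≫ P.hom = ξ := by
      intro s
      rw [Category.assoc, hom_w e.inv, s.2]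
    obtain ⟨g, hg, hu⟩ := hP.2 Ω ξ ⟨s.1 ≫ e.inv.left, hw s⟩ ⟨t.1 ≫ e.inv.left, hw t⟩
    have key : ∀ g : G, (FEt.fiber ξ).map (conjAction e ρ g).hom s = t ↔
        (s.1 ≫ e.inv.left) ≫ (ρ g).hom.left = t.1 ≫ e.inv.left := by
      intro g
      have e1 : (s.1 ≫ (conjAction e ρ g).hom.left) ≫ e.inv.left =
          (s.1 ≫ e.inv.left) ≫ (ρ g).hom.left := by
        rw [conjAction_hom, MorphismProperty.Comma.comp_left, MorphismProperty.Comma.comp_left]
        simp only [Category.assoc]
        rw [h1, Category.comp_id]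
      constructor
      · intro h3
        have h4 : s.1 ≫ (conjAction e ρ g).hom.left = t.1 := congrArg Subtype.val h3
        rw [← e1, h4]
      · intro h3
        apply Subtype.ext
        change s.1 ≫ (conjAction e ρ g).hom.left = t.1
        rw [← cancel_mono e.inv.left, e1, h3]
    refine ⟨g, (key g).mpr (congrArg Subtype.val hg), fun g' hg' => hu g' ?_⟩
    apply Subtype.ext
    exact (key g').mp hg'

end Groth.Agent.Pi1.H383.PrincBC
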