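import Groth.Agent.Pi1.H416.PrincDesc
import Groth.Prelude.Def_PiSp
import Mathlib.AlgebraicGeometry.Morphisms.FlatDescent

/-!
# Galois covers are principal covers under their automorphism group
-/

set_option autoImplicit false

universe u v

open CategoryTheory AlgebraicGeometry Limits

namespace Groth.Agent.Pi1.H383.GalPrinc

open Groth.Agent.Pi1A.FEtAffine Groth.Agent.Pi1.H416.PrincDesc

/-- Two endomorphisms of a connected finite etale cover which agree at a geometric point are equal. -/
theorem hom_ext_of_point {Y : Scheme.{u}} (Z : FEt.Cat Y) [ConnectedSpace Z.left] (σ τ : Z ⟶ Z)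
    {Ω : Type u} [Field Ω] (s : Spec (CommRingCat.of Ω) ⟶ Z.left)
    (h : s ≫ σ.left = s ≫ τ.left) : σ = τ := by
  let π : Z.left ⟶ Y := Z.hom
  have i1 : IsFinite π := Z.prop.1
  have i2 : Etale π := Z.prop.2
  have hσ : σ.left ≫ π = π := hom_w σ
  have hτ : τ.left ≫ π = π := hom_w τ
  have h1 := isOpenImmersion_graph π τ.left hτ
  have h2 : IsClopen ((graph π σ.left hσ) ⁻¹' Set.range (graph π τ.left hτ)) :=
    (isClopen_range_graph π τ.left hτ).preimage (graph π σ.left hσ).continuous
  have h3 : s default ∈ (graph π σ.left hσ) ⁻¹' Set.range (graph π τ.left hτ) := by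
    have h4 := (mem_range_graph_iff π τ.left hτ s (s ≫ σ.left) (by rw [Category.assoc, hσ])
      default).mpr h.symm
    have h5 : pullback.lift s (s ≫ σ.left) (by rw [Category.assoc, hσ]) = s ≫ graph π σ.left hσ := by
      apply pullback.hom_ext
      · rw [pullback.lift_fst, Category.assoc, graph_fst, Category.comp_id]
      · rw [pullback.lift_snd, Category.assoc, graph_snd]
    rw [h5, Scheme.Hom.comp_apply] at h4
    exact h4
  have h4 := h2.eq_univ ⟨_, h3⟩
  let r := IsOpenImmersion.lift (graph π τ.left hτ) (graph π σ.left hσ) (by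
    rintro _ ⟨z, rfl⟩
    have : z ∈ (graph π σ.left hσ) ⁻¹' Set.range (graph π τ.left hτ) := by rw [h4]; trivial
    exact this)
  have hr : r ≫ graph π τ.left hτ = graph π σ.left hσ := IsOpenImmersion.lift_fac _ _ _
  have hr1 : r = 𝟙 _ := by
    have h5 := congrArg (· ≫ pullback.fst π π) hr
    simpa only [Category.assoc, graph_fst, Category.comp_id] using h5
  apply MorphismProperty.Over.Hom.ext
  have h6 := congrArg (· ≫ pullback.snd π π) hr
  simp only [graph_snd, hr1, Category.id_comp] at h6
  exact h6.symm

/-- A nonempty finite etale cover of a connected scheme is surjective. -/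
theorem surjective_of_nonempty {Y : Scheme.{u}} [ConnectedSpace Y] (Z : FEt.Cat Y)
    [Nonempty Z.left] : Function.Surjective Z.hom.base := by
  let π : Z.left ⟶ Y := Z.hom
  have i1 : IsFinite π := Z.prop.1
  have i2 : Etale π := Z.prop.2
  have h1 : IsClopen (Set.range π) := ⟨π.isClosedMap.isClosed_range, π.isOpenMap.isOpen_range⟩
  exact Set.range_eq_univ.mp (h1.eq_univ (Set.range_nonempty _))

/-- A Galois cover of a connected scheme is a principal cover under its automorphism group. -/
theorem isPrincipal_of_isGaloisCover {Y : Scheme.{u}} [ConnectedSpace Y] (Z : FEt.Cat Y)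
    (hZ : PiSp.IsGaloisCover Z) : SGA1t.IsPrincipal (Aut Z) Z (MonoidHom.id _) := by
  have hc : ConnectedSpace Z.left := hZ.1
  refine ⟨surjective_of_nonempty Z, ?_⟩
  intro Ω _ _ ξ s t
  obtain ⟨σ, hσ⟩ := hZ.2 Ω ξ s t
  refine ⟨σ, hσ, fun τ hτ => ?_⟩
  have h1 : s.1 ≫ τ.hom.left = s.1 ≫ σ.hom.left :=
    (congrArg Subtype.val hτ).trans (congrArg Subtype.val hσ).symm
  exact Iso.ext (hom_ext_of_point Z τ.hom σ.hom s.1 h1)

/-- Base change along a surjective flat quasi-compact morphism reflects isomorphisms of finite etale covers. -/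
theorem reflectsIsomorphisms {Y Y' : Scheme.{u}} (g : Y' ⟶ Y) [Flat g] [Surjective g] [QuasiCompact g] :
    (FEt.restrict g).ReflectsIsomorphisms := by
  refine ⟨fun {A B} f hf => ?_⟩
  have h1 : IsIso ((FEt.restrict g).map f).left := by
    have : IsIso ((MorphismProperty.Over.forget FEt.prop ⊤ Y' ⋙ Over.forget Y').map
      ((FEt.restrict g).map f)) := inferInstance
    exact this
  have hpb : IsPullback (proj g A) ((FEt.restrict g).map f).left f.left (proj g B) := by
    have h2 := isPullback g B
    have h3 := isPullback g A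
    rw [← hom_w f, ← hom_w ((FEt.restrict g).map f)] at h3
    exact IsPullback.of_bot h3 (map_left_proj g f).symm h2
  have h4 : IsIso f.left := by
    have h5 : Flat (proj g B) := MorphismProperty.of_isPullback (isPullback g B).flip inferInstance
    have h6 : Surjective (proj g B) :=
      MorphismProperty.of_isPullback (isPullback g B).flip inferInstance
    have h7 : QuasiCompact (proj g B) :=
      MorphismProperty.of_isPullback (isPullback g B).flip inferInstance
    exact MorphismProperty.of_isPullback_of_descendsAlong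
      (P := MorphismProperty.isomorphisms Scheme.{u}) (Q := (@Surjective ⊓ @Flat ⊓ @QuasiCompact))
      hpb.flip ⟨⟨h6, h5⟩, h7⟩ h1
  have : IsIso ((MorphismProperty.Over.forget FEt.prop ⊤ Y ⋙ Over.forget Y).map f) := h4
  exact isIso_of_reflects_iso f (MorphismProperty.Over.forget FEt.prop ⊤ Y ⋙ Over.forget Y)

end Groth.Agent.Pi1.H383.GalPrinc
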