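import Groth.Agent.Pi1.H383.ActDesc
import Groth.Agent.Pi1.H383.GalPrinc
import Groth.Agent.Pi1B.LimField

/-!
# Descent of principal covers over an algebraic extension to a finite extension
-/

set_option autoImplicit false

universe u v

open CategoryTheory AlgebraicGeometry Limits

namespace Groth.Agent.Pi1.H383.GalDesc

open Groth.Agent.Pi1B Groth.Agent.Pi1B.LimField

section

variable (A K Ω : Type u) [CommRing A] [Field K] [Algebra A K] [Field Ω] [Algebra K Ω]
  [Algebra A Ω] [IsScalarTower A K Ω]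

/-- `Spec B ⟶ Spec A`. -/
noncomputable abbrev sp (B : Type u) [CommRing B] [Algebra A B] :
    Spec (CommRingCat.of B) ⟶ Spec (CommRingCat.of A) :=
  Spec.map (CommRingCat.ofHom (algebraMap A B))

/-- The structure map of `specFunctor K Ω` over `A`. -/
noncomputable def specBaseA :
    specFunctor K Ω ⟶ (Functor.const _).obj (Spec (CommRingCat.of A)) where
  app F := sp A F.unop.1
  naturality F G h := by
    refine Eq.trans ?_ (Category.comp_id _).symm
    exact (Spec.map_comp (CommRingCat.ofHom (algebraMap A G.unop.1))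
      (CommRingCat.ofHom (IntermediateField.inclusion
        (leOfHom h.unop : G.unop.1 ≤ F.unop.1)).toRingHom)).symm

variable {X : Scheme.{u}} (f : X ⟶ Spec (CommRingCat.of A))

lemma specCone_strA (F : (FinSub K Ω)ᵒᵖ) :
    (specCone K Ω).π.app F ≫ LimPull.str _ (specBaseA A K Ω) F = sp A Ω :=
  (Spec.map_comp (CommRingCat.ofHom (algebraMap A F.unop.1))
    (CommRingCat.ofHom (algebraMap F.unop.1 Ω))).symm

/-- The diagram `F ↦ X ×_A F`. -/
noncomputable abbrev diagA : (FinSub K Ω)ᵒᵖ ⥤ Scheme.{u} :=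
  LimPull.pullDiag (specFunctor K Ω) (specBaseA A K Ω) f

/-- The cone over `diagA` with point `X ×_A Ω`. -/
noncomputable abbrev coneA : Cone (diagA A K Ω f) :=
  LimPull.pullCone (specBaseA A K Ω) f (specCone K Ω) (sp A Ω) (specCone_strA A K Ω)
    (IsPullback.of_hasPullback f (sp A Ω))

noncomputable def isLimitConeA [Algebra.IsAlgebraic K Ω] : IsLimit (coneA A K Ω f) :=
  have : CategoryTheory.IsConnected (FinSub K Ω)ᵒᵖ := IsCofiltered.isConnected _
  LimPull.isLimitPullCone (specBaseA A K Ω) f (specCone K Ω) (sp A Ω) (specCone_strA A K Ω)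
    (IsPullback.of_hasPullback f (sp A Ω)) (isLimitSpecCone K Ω)

instance (F : (FinSub K Ω)ᵒᵖ) : Flat ((coneA A K Ω f).π.app F) := by
  have h : Flat ((specCone K Ω).π.app F) := by
    have : Flat (Spec.map (CommRingCat.ofHom (algebraMap F.unop.1 Ω))) := by
      rw [Flat.SpecMap_iff]
      exact (RingHom.flat_algebraMap_iff).mpr inferInstance
    exact this
  exact MorphismProperty.of_isPullback
    (LimPull.isPullback_π (specBaseA A K Ω) f (specCone K Ω) (sp A Ω) (specCone_strA A K Ω)
      (IsPullback.of_hasPullback f (sp A Ω)) F).flip h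

instance (F : (FinSub K Ω)ᵒᵖ) : Surjective ((coneA A K Ω f).π.app F) := by
  have h : Surjective ((specCone K Ω).π.app F) := by
    have : Surjective (Spec.map (CommRingCat.ofHom (algebraMap F.unop.1 Ω))) := inferInstance
    exact this
  exact MorphismProperty.of_isPullback
    (LimPull.isPullback_π (specBaseA A K Ω) f (specCone K Ω) (sp A Ω) (specCone_strA A K Ω)
      (IsPullback.of_hasPullback f (sp A Ω)) F).flip h

instance (F : (FinSub K Ω)ᵒᵖ) : QuasiCompact ((coneA A K Ω f).π.app F) := by
  have h : QuasiCompact ((specCone K Ω).π.app F) := by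
    have : QuasiCompact (Spec.map (CommRingCat.ofHom (algebraMap F.unop.1 Ω))) := inferInstance
    exact this
  exact MorphismProperty.of_isPullback
    (LimPull.isPullback_π (specBaseA A K Ω) f (specCone K Ω) (sp A Ω) (specCone_strA A K Ω)
      (IsPullback.of_hasPullback f (sp A Ω)) F).flip h

end

/-- The transition map `X ×_A Ω ⟶ X ×_A L`. -/
noncomputable def tr (A : Type u) [CommRing A] (L Ω : Type u) [CommRing L] [CommRing Ω] [Algebra A L]
    [Algebra A Ω] [Algebra L Ω] [IsScalarTower A L Ω] {X : Scheme.{u}}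
    (f : X ⟶ Spec (CommRingCat.of A)) : pullback f (sp A Ω) ⟶ pullback f (sp A L) :=
  pullback.lift (pullback.fst _ _) (pullback.snd _ _ ≫ sp L Ω) (by
    rw [Category.assoc, ← Spec.map_comp, ← CommRingCat.ofHom_comp,
      ← IsScalarTower.algebraMap_eq, pullback.condition])

instance isScalarTower_intermediateField (A K Ω : Type u) [CommRing A] [Field K] [Algebra A K]
    [Field Ω] [Algebra K Ω] [Algebra A Ω] [IsScalarTower A K Ω] (L : IntermediateField K Ω) :
    IsScalarTower A L Ω :=
  IsScalarTower.of_algebraMap_eq fun _ => rfl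

/-- A principal cover of `X ×_A Ω`, with `Ω` an algebraic extension of a field `K` over `A`, descends to a finite
subextension. -/
theorem exists_principal (A K Ω : Type u) [CommRing A] [Field K] [Algebra A K] [Field Ω]
    [Algebra K Ω] [Algebra A Ω] [IsScalarTower A K Ω] [Algebra.IsAlgebraic K Ω] {X : Scheme.{u}}
    (f : X ⟶ Spec (CommRingCat.of A)) [QuasiCompact f] [QuasiSeparated f] (G : Type v) [Group G]
    [Finite G] (Z : FEt.Cat (pullback f (sp A Ω))) (ρ' : G →* Aut Z)
    (hZ : SGA1t.IsPrincipal G Z ρ') :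
    ∃ (L : IntermediateField K Ω) (_ : FiniteDimensional K L) (W : FEt.Cat (pullback f (sp A L)))
      (ρ : G →* Aut W), SGA1t.IsPrincipal G W ρ ∧ ∃ e : (FEt.restrict (tr A L Ω f)).obj W ≅ Z,
        ∀ g, (FEt.restrict (tr A L Ω f)).map (ρ g).hom ≫ e.hom = e.hom ≫ (ρ' g).hom := by
  obtain ⟨F, W, ρ, e, he⟩ := ActDesc.exists_action (isLimitConeA A K Ω f) G Z ρ'
  have hrefl := GalPrinc.reflectsIsomorphisms ((coneA A K Ω f).π.app F)
  have h1 : SGA1t.IsPrincipal G W ρ :=
    H416.PrincDesc.isPrincipal_of_iso ((coneA A K Ω f).π.app F) G W ρ Z ρ' e he hZ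
  have ht : (coneA A K Ω f).π.app F = tr A F.unop.1 Ω f := by
    apply pullback.hom_ext
    · refine (LimPull.pullCone_fst (specBaseA A K Ω) f (specCone K Ω) (sp A Ω)
        (specCone_strA A K Ω) (IsPullback.of_hasPullback f (sp A Ω)) F).trans ?_
      exact (pullback.lift_fst _ _ _).symm
    · refine (LimPull.pullCone_snd (specBaseA A K Ω) f (specCone K Ω) (sp A Ω)
        (specCone_strA A K Ω) (IsPullback.of_hasPullback f (sp A Ω)) F).trans ?_
      exact (pullback.lift_snd _ _ _).symm
  clear hrefl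
  revert e he
  rw [ht]
  intro e he
  exact ⟨F.unop.1, F.unop.2, W, ρ, h1, e, he⟩

end Groth.Agent.Pi1.H383.GalDesc
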