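import Groth.Agent.Pi1.H383.TameRes
import Groth.Agent.Pi1.H383.PrincBC
import Groth.Agent.Pi1.H421.PrincAlg
import Groth.Agent.S1989
import Groth.Agent.Models.DVRGeneric
import Groth.Prelude.Def_SGA1
import Mathlib.RingTheory.DiscreteValuationRing.TFAE
import Mathlib.RingTheory.LocalRing.ResidueField.Ideal

/-!
# Principal covers of order prime to the residue characteristic are tame along the closed point of a DVR
-/

set_option autoImplicit false
universe u v

open CategoryTheory AlgebraicGeometry Limits
open IsLocalRing EtRam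
open Groth.Agent.Pi1.H421.GalAlg

namespace Groth.Agent.Pi1.H383.TameAlong

/-- the localization at a nonzero principal prime is a DVR -/
theorem isDVR_atPrime {H : Type u} [CommRing H] [IsDomain H] [IsNoetherianRing H] (a : H) (ha : a ≠ 0)
    [(Ideal.span {a}).IsPrime] : IsDiscreteValuationRing (Localization.AtPrime (Ideal.span {a})) := by
  have hmax : maximalIdeal (Localization.AtPrime (Ideal.span {a})) = Ideal.span {algebraMap H _ a} := by
    have := Localization.AtPrime.map_eq_maximalIdeal (I := Ideal.span {a})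
    rw [Ideal.map_span, Set.image_singleton] at this
    exact this.symm
  have hnf : ¬ IsField (Localization.AtPrime (Ideal.span {a})) := by
    have h0 : Ideal.span {a} ≠ ⊥ := by
      rwa [Ne, Ideal.span_singleton_eq_bot]
    exact IsLocalization.AtPrime.not_isField H h0 (Localization.AtPrime (Ideal.span {a}))
  refine ((IsDiscreteValuationRing.TFAE (Localization.AtPrime (Ideal.span {a})) hnf).out 4 0).mp ?_
  exact ⟨_, hmax⟩

/-- Ring form. -/
theorem isTameAlong_alg {R : Type u} [CommRing R] [IsDomain R] [IsNoetherianRing R] {r : ℕ} (f : Fin r → R)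
    [∀ i, (Ideal.span {f i}).IsPrime] (hf : ∀ i, f i ≠ 0) (p : ℕ) [Fact p.Prime]
    (hp : ∀ i, (p : R) ∈ Ideal.span {f i}) (K : Type u) [Field K]
    [Algebra R K] [IsFractionRing R K] (B : Type u) [CommRing B] [Algebra K B] [Module.Finite K B]
    [Algebra.FormallyUnramified K B] (G : Type v) [Group G] [Finite G] [MulSemiringAction G B]
    [SMulCommClass G K B] (hfr : IsFreeGeom B G) (ht : IsTransGeom K B G)
    (hG : (Nat.card G).Coprime p) (C : Type u) [CommRing C] (φ : R →+* C) (θ : C ≃+* B)
    (hθ : ∀ x, θ (φ x) = algebraMap K B (algebraMap R K x)) : SGA1.IsTameAlong f φ := by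
  intro i q _ hq
  let P := Ideal.span {f i}
  let A := Localization.AtPrime P
  have hdom : IsDomain A := IsLocalization.isDomain_localization (Ideal.primeCompl_le_nonZeroDivisors P)
  have hdvr : IsDiscreteValuationRing A := isDVR_atPrime (f i) (hf i)
  let _ : Algebra A K := (IsLocalization.lift (M := P.primeCompl) (g := algebraMap R K) (fun y => by
    rw [isUnit_iff_ne_zero, ne_eq, IsFractionRing.to_map_eq_zero_iff]
    intro h0
    exact y.2 (h0 ▸ P.zero_mem))).toAlgebra
  have hRAK : IsScalarTower R A K := IsScalarTower.of_algebraMap_eq fun x =>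
    (IsLocalization.lift_eq _ x).symm
  have hfrac : IsFractionRing A K :=
    IsFractionRing.isFractionRing_of_isDomain_of_isLocalization P.primeCompl A K
  have hchar : ∀ p' : ℕ, p'.Prime → CharP (ResidueField A) p' → (Nat.card G).Coprime p' := by
    intro p' hp' hc
    have h1 : ((p : ℕ) : ResidueField A) = 0 := by
      have h2 : algebraMap R A (p : R) ∈ maximalIdeal A := by
        rw [← Localization.AtPrime.map_eq_maximalIdeal]
        exact Ideal.mem_map_of_mem _ (hp i)
      have h3 : residue A (algebraMap R A (p : R)) = 0 := (residue_eq_zero_iff _).mpr h2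
      rwa [map_natCast, map_natCast] at h3
    have h2 : p' ∣ p := (CharP.cast_eq_zero_iff (ResidueField A) p' p).mp h1
    have h3 : p' = p := (Nat.prime_dvd_prime_iff_eq hp' (Fact.out : p.Prime)).mp h2
    rw [h3]
    exact hG
  let q' : Ideal B := q.comap (θ.symm : B →+* C)
  have hq' : q'.IsPrime := Ideal.IsPrime.comap _
  have h1 := TameRes.isTamelyRamified A (K := K) (B := B) hfr ht hchar q'
  -- the isomorphism of residue fields
  have hqq : q = q'.comap (θ : C →+* B) := by
    ext x
    rw [Ideal.mem_comap, Ideal.mem_comap]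
    simp
  let ε : q.ResidueField →+* q'.ResidueField := Ideal.ResidueField.map q q' (θ : C →+* B) hqq
  have hε : ∀ x : C, ε (algebraMap C q.ResidueField x) = algebraMap B q'.ResidueField (θ x) := fun x =>
    Ideal.ResidueField.map_algebraMap q q' (θ : C →+* B) hqq x
  let _ : Algebra q.ResidueField q'.ResidueField := ε.toAlgebra
  let _ : Algebra K q.ResidueField :=
    ((algebraMap C q.ResidueField).comp ((θ.symm : B →+* C).comp (algebraMap K B))).toAlgebra
  have hKL : ∀ x : K, algebraMap K q.ResidueField x =
    algebraMap C q.ResidueField (θ.symm (algebraMap K B x)) := fun _ => rfl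
  have htow : IsScalarTower K q.ResidueField q'.ResidueField := by
    refine IsScalarTower.of_algebraMap_eq fun x => ?_
    rw [hKL]
    change _ = ε _
    rw [hε, RingEquiv.apply_symm_apply, ← IsScalarTower.algebraMap_apply]
  have hart : IsArtinianRing B := IsArtinianRing.of_finite K B
  have hmax : q'.IsMaximal := inferInstance
  have hπ : Function.Surjective (algebraMap B q'.ResidueField) :=
    Ideal.algebraMap_residueField_surjective q'
  have hfin : FiniteDimensional K q'.ResidueField :=
    Module.Finite.of_surjective (IsScalarTower.toAlgHom K B q'.ResidueField).toLinearMap hπ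
  have hunr : Algebra.FormallyUnramified K q'.ResidueField :=
    Algebra.FormallyUnramified.of_surjective (IsScalarTower.toAlgHom K B q'.ResidueField) hπ
  have hsep : Algebra.IsSeparable K q'.ResidueField :=
    Algebra.FormallyUnramified.isSeparable K q'.ResidueField
  have h2 := (Groth.Agent.S1989.result A K q.ResidueField q'.ResidueField).1 (by
    rw [IsScalarTower.algebraMap_eq K B q'.ResidueField]
    exact h1)
  have h3 : SGA1.genericResidueMap φ (Ideal.span {f i}) q hq =
      (algebraMap K q.ResidueField).comp (algebraMap A K) := by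
    refine IsLocalization.ringHom_ext P.primeCompl (RingHom.ext fun x => ?_)
    have h4 : SGA1.genericResidueMap φ (Ideal.span {f i}) q hq (algebraMap R A x) =
        algebraMap C q.ResidueField (φ x) := IsLocalization.lift_eq _ x
    change SGA1.genericResidueMap φ (Ideal.span {f i}) q hq (algebraMap R A x) =
      algebraMap K q.ResidueField (algebraMap A K (algebraMap R A x))
    rw [h4, ← IsScalarTower.algebraMap_apply R A K, hKL, ← hθ, RingEquiv.symm_apply_apply]
  rw [h3]
  exact h2

/-- If `β ≫ h = Spec.map ψ` then `ψ` is the map on global sections. -/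
theorem eq_of_comp_eq {R B : CommRingCat.{u}} {Y : Scheme.{u}} (β : Spec B ⟶ Y) (h : Y ⟶ Spec R)
    (ψ : R ⟶ B) (w : β ≫ h = Spec.map ψ) :
    (Scheme.ΓSpecIso R).inv ≫ h.appTop ≫ β.appTop ≫ (Scheme.ΓSpecIso B).hom = ψ := by
  have h1 : h.appTop ≫ β.appTop = (Spec.map ψ).appTop := by
    rw [← Scheme.Hom.comp_appTop, w]
  rw [← Category.assoc h.appTop, h1, Scheme.ΓSpecIso_naturality, Iso.inv_hom_id_assoc]

/-- A principal cover of order prime to `p` of the punctured spectrum of a discrete valuation ring of residue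
characteristic `p` is tame. -/
theorem isTameAlong {R : Type u} [CommRing R] [IsDomain R] [IsDiscreteValuationRing R]
    (f : Fin 1 → R) [∀ i, (Ideal.span {f i}).IsPrime] (hf : ∀ i, f i ≠ 0) (p : ℕ) [Fact p.Prime]
    (hp : (p : R) ∈ maximalIdeal R) (G : Type v) [Group G] [Finite G]
    (V : FEt.Cat ((SGA1.specBasicOpen R (∏ i, f i)) : Scheme.{u})) (ρ : G →* Aut V)
    (hV : SGA1t.IsPrincipal G V ρ) (hG : (Nat.card G).Coprime p) :
    SGA1.IsTameAlong f (((V.hom ≫ ((SGA1.specBasicOpen R (∏ i, f i))).ι).appTop).hom.comp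
      (Scheme.ΓSpecIso (CommRingCat.of R)).inv.hom) := by
  have hirr : Irreducible (∏ i, f i) := by
    rw [Fin.prod_univ_one]
    exact ((Ideal.span_singleton_prime (hf 0)).mp inferInstance).irreducible
  have hmax : ∀ i, maximalIdeal R = Ideal.span {f i} := fun i => by
    have h1 := hirr.maximalIdeal_eq
    rw [Fin.prod_univ_one] at h1
    rw [h1, Subsingleton.elim i 0]
  let K := FractionRing R
  have haway : IsLocalization.Away (∏ i, f i) K :=
    Models.DVRGeneric.isLocalization_away R (∏ i, f i) hirr K
  let j : Spec (CommRingCat.of K) ⟶ Spec (CommRingCat.of R) :=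
    Spec.map (CommRingCat.ofHom (algebraMap R K))
  have hj : IsOpenImmersion j := IsOpenImmersion.of_isLocalization (∏ i, f i)
  let U : (Spec (CommRingCat.of R)).Opens := SGA1.specBasicOpen R (∏ i, f i)
  have hrange : Set.range j = Set.range U.ι := by
    rw [Scheme.Opens.range_ι]
    exact PrimeSpectrum.localization_away_comap_range K (∏ i, f i)
  let e : Spec (CommRingCat.of K) ≅ U := IsOpenImmersion.isoOfRangeEq j U.ι hrange
  have he : e.hom ≫ U.ι = j := IsOpenImmersion.isoOfRangeEq_hom_fac j U.ι hrange
  obtain ⟨B, _, _, _, _, _, _, e', he', -, -, hfr, ht⟩ := H421.PrincAlg.exists_algebra K G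
    ((FEt.restrict e.hom).obj V) (PrincBC.bcAction e.hom ρ) (PrincBC.isPrincipal_bc e.hom G V ρ hV)
  let β : Spec (CommRingCat.of B) ⟶ V.left := e'.inv ≫ Pi1A.FEtAffine.proj e.hom V
  have hβ : IsIso β := by
    have : IsIso (Pi1A.FEtAffine.proj e.hom V) := Pi1A.FEtAffine.isIso_proj e.hom V
    exact inferInstanceAs (IsIso (e'.inv ≫ _))
  have hw : β ≫ (V.hom ≫ U.ι) = Spec.map (CommRingCat.ofHom ((algebraMap K B).comp (algebraMap R K))) := by
    have h1 : Pi1A.FEtAffine.proj e.hom V ≫ V.hom = ((FEt.restrict e.hom).obj V).hom ≫ e.hom :=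
      (Pi1A.FEtAffine.isPullback e.hom V).w
    calc β ≫ (V.hom ≫ U.ι) = e'.inv ≫ (Pi1A.FEtAffine.proj e.hom V ≫ V.hom) ≫ U.ι := by
          simp only [β, Category.assoc]
      _ = e'.inv ≫ ((FEt.restrict e.hom).obj V).hom ≫ e.hom ≫ U.ι := by
          rw [h1, Category.assoc]
      _ = Spec.map (CommRingCat.ofHom (algebraMap K B)) ≫ j := by
          rw [he, ← he', Category.assoc, Iso.inv_hom_id_assoc]
      _ = _ := by rw [← Spec.map_comp]; rfl
  have hw' := eq_of_comp_eq β (V.hom ≫ U.ι) _ hw
  have hβ' : IsIso β.appTop := inferInstanceAs (IsIso (β.app ⊤))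
  let θ' : Γ(V.left, ⊤) ≅ CommRingCat.of B :=
    asIso β.appTop ≪≫ Scheme.ΓSpecIso (CommRingCat.of B)
  refine isTameAlong_alg f hf p (fun i => (hmax i) ▸ hp) K B G hfr ht hG Γ(V.left, ⊤) _
    θ'.commRingCatIsoToRingEquiv fun x => ?_
  exact congr($(hw').hom x)

end Groth.Agent.Pi1.H383.TameAlong
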