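import Groth.Agent.Pi1A.FEtLimit
import Mathlib.CategoryTheory.Endomorphism
import Mathlib.AlgebraicGeometry.Morphisms.Flat

/-!
# Descent of finite etale covers with an action of a finite group to a stage of a cofiltered limit
-/

set_option autoImplicit false

universe u v

open CategoryTheory AlgebraicGeometry Limits

namespace Groth.Agent.Pi1.H383.ActDesc

open Groth.Agent.Pi1A.LimIso Groth.Agent.Pi1A.FEtAffine Groth.Agent.Pi1A.FEtLimit

/-- A family of endomorphisms which behaves like the action of a group defines an action. -/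
noncomputable def mkAction {C : Type*} [Category* C] {G : Type*} [Group G] {W : C} (β : G → (W ⟶ W))
    (h1 : β 1 = 𝟙 W) (hm : ∀ g h, β (g * h) = β h ≫ β g) : G →* Aut W where
  toFun g :=
    { hom := β g
      inv := β g⁻¹
      hom_inv_id := by rw [← hm, inv_mul_cancel, h1]
      inv_hom_id := by rw [← hm, mul_inv_cancel, h1] }
  map_one' := by ext; exact h1
  map_mul' g h := by ext; exact hm g h

@[simp] lemma mkAction_hom {C : Type*} [Category* C] {G : Type*} [Group G] {W : C} (β : G → (W ⟶ W))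
    (h1 : β 1 = 𝟙 W) (hm : ∀ g h, β (g * h) = β h ≫ β g) (g : G) :
    (mkAction β h1 hm g).hom = β g := rfl

variable {I : Type u} [SmallCategory I] [IsCofiltered I] [Quiver.IsThin I] {D : I ⥤ Scheme.{u}}
  {c : Cone D} (hc : IsLimit c) [∀ (i j : I) (f : i ⟶ j), IsAffineHom (D.map f)]
  [∀ i, CompactSpace (D.obj i)] [∀ i, QuasiSeparatedSpace (D.obj i)]
  [∀ i, Flat (c.π.app i)] [∀ i, Surjective (c.π.app i)]

include hc in
/-- A finite etale cover with an action of a finite group over the limit comes from a stage. -/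
theorem exists_action (G : Type v) [Group G] [Finite G] (Z : FEt.Cat c.pt) (ρ' : G →* Aut Z) :
    ∃ (j : I) (W : FEt.Cat (D.obj j)) (ρ : G →* Aut W) (e : (FEt.restrict (c.π.app j)).obj W ≅ Z),
      ∀ g, (FEt.restrict (c.π.app j)).map (ρ g).hom ≫ e.hom = e.hom ≫ (ρ' g).hom := by
  classical
  cases nonempty_fintype G
  obtain ⟨i, W₀, ⟨e₀⟩⟩ := exists_obj hc Z
  obtain ⟨a, ha⟩ : ∃ a : G → ((FEt.restrict (c.π.app i)).obj W₀ ⟶ (FEt.restrict (c.π.app i)).obj W₀),
      ∀ g, a g = e₀.hom ≫ (ρ' g).hom ≫ e₀.inv := ⟨_, fun _ => rfl⟩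
  have ha1 : a 1 = 𝟙 _ := by
    rw [ha, map_one]
    change e₀.hom ≫ 𝟙 _ ≫ e₀.inv = _
    rw [Category.id_comp, Iso.hom_inv_id]
  have ham : ∀ g h, a (g * h) = a h ≫ a g := by
    intro g h
    rw [ha, ha, ha, map_mul]
    change e₀.hom ≫ ((ρ' h).hom ≫ (ρ' g).hom) ≫ e₀.inv = _
    simp only [Category.assoc, Iso.inv_hom_id_assoc]
  choose J φ b hb using fun g => exists_hom hc i W₀ W₀ (a g)
  obtain ⟨j, hj⟩ := IsCofiltered.inf_objs_exists (Finset.univ.image J)
  let ψ : ∀ g, j ⟶ J g := fun g =>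
    Classical.choice (hj (Finset.mem_image_of_mem _ (Finset.mem_univ g)))
  let φ₀ : j ⟶ i := ψ 1 ≫ φ 1
  have hφ₀ : ∀ g, ψ g ≫ φ g = φ₀ := fun g => Subsingleton.elim _ _
  let W : FEt.Cat (D.obj j) := (FEt.restrict (D.map φ₀)).obj W₀
  let r : ((FEt.restrict (c.π.app i)).obj W₀).left ⟶ W.left :=
    bcMap W₀.hom (D.map φ₀) (c.π.app i) (c.π.app j) (c.w φ₀)
  have hr : IsPullback r ((FEt.restrict (c.π.app i)).obj W₀).hom W.hom (c.π.app j) :=
    isPullback_bcMap ..
  have hr1 : Flat r := MorphismProperty.of_isPullback hr.flip inferInstance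
  have hr2 : Surjective r := MorphismProperty.of_isPullback hr.flip inferInstance
  have hr3 : Epi r := Flat.epi_of_flat_of_surjective r
  -- the endomorphisms at level `j`
  have key : ∀ g, ∃ β : W ⟶ W, r ≫ β.left = (a g).left ≫ r := by
    intro g
    let q : pullback W₀.hom (D.map φ₀) ⟶ pullback W₀.hom (D.map (φ g)) :=
      bcMap W₀.hom (D.map (φ g)) (D.map φ₀) (D.map (ψ g)) (by rw [← D.map_comp, hφ₀])
    let r' : pullback W₀.hom (c.π.app i) ⟶ pullback W₀.hom (D.map φ₀) := r
    have hq : r' ≫ q = bcMap W₀.hom (D.map (φ g)) (c.π.app i) (c.π.app (J g)) (c.w (φ g)) := by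
      apply pullback.hom_ext
      · simp [r', r, q]
      · simp only [Category.assoc, r', r, q, bcMap_snd, bcMap_snd_assoc]
        rw [c.w]
    let b' : pullback W₀.hom (D.map (φ g)) ⟶ pullback W₀.hom (D.map (φ g)) := (b g).left
    have hb' : b' ≫ pullback.snd W₀.hom (D.map (φ g)) = pullback.snd W₀.hom (D.map (φ g)) :=
      hom_w (b g)
    let a' : pullback W₀.hom (c.π.app i) ⟶ pullback W₀.hom (c.π.app i) := (a g).left
    have ha' : a' ≫ pullback.snd W₀.hom (c.π.app i) = pullback.snd W₀.hom (c.π.app i) := hom_w (a g)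
    have hb'' : bcMap W₀.hom (D.map (φ g)) (c.π.app i) (c.π.app (J g)) (c.w (φ g)) ≫ b' =
        a' ≫ bcMap W₀.hom (D.map (φ g)) (c.π.app i) (c.π.app (J g)) (c.w (φ g)) := hb g
    let β : pullback W₀.hom (D.map φ₀) ⟶ pullback W₀.hom (D.map φ₀) :=
      pullback.lift (q ≫ b' ≫ pullback.fst W₀.hom (D.map (φ g))) (pullback.snd W₀.hom (D.map φ₀)) (by
        rw [Category.assoc, Category.assoc, pullback.condition, ← Category.assoc b', hb']
        simp only [q, bcMap_snd_assoc, ← D.map_comp, hφ₀])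
    refine ⟨MorphismProperty.Over.homMk (A := W) (B := W) β (pullback.lift_snd _ _ _) trivial, ?_⟩
    change r' ≫ β = a' ≫ r'
    apply pullback.hom_ext
    · rw [Category.assoc, pullback.lift_fst, ← Category.assoc, hq, ← Category.assoc, hb'']
      simp [r', r]
    · rw [Category.assoc, pullback.lift_snd]
      simp only [Category.assoc, r', r, bcMap_snd, reassoc_of% ha']
  choose β hβ using key
  have hβ1 : β 1 = 𝟙 W := by
    apply MorphismProperty.Over.Hom.ext
    rw [← cancel_epi r, hβ, ha1]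
    exact (Category.id_comp _).trans (Category.comp_id _).symm
  have hβm : ∀ g h, β (g * h) = β h ≫ β g := by
    intro g h
    apply MorphismProperty.Over.Hom.ext
    rw [← cancel_epi r, hβ, ham, MorphismProperty.Comma.comp_left, MorphismProperty.Comma.comp_left,
      ← Category.assoc r, hβ, Category.assoc, Category.assoc, hβ]
  let ρ : G →* Aut W := mkAction β hβ1 hβm
  -- the isomorphism
  let e₁' : ((FEt.restrict (c.π.app j)).obj W).left ≅ ((FEt.restrict (c.π.app i)).obj W₀).left :=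
    hr.isoPullback.symm
  let e₁ : (FEt.restrict (c.π.app j)).obj W ≅ (FEt.restrict (c.π.app i)).obj W₀ :=
    isoMk (T := (FEt.restrict (c.π.app j)).obj W) (T' := (FEt.restrict (c.π.app i)).obj W₀) e₁'
      hr.isoPullback_inv_snd
  have he₁ : e₁.hom.left ≫ r = proj (c.π.app j) W := hr.isoPullback_inv_fst
  refine ⟨j, W, ρ, e₁ ≪≫ e₀, fun g => ?_⟩
  have h2 : (FEt.restrict (c.π.app j)).map (ρ g).hom ≫ e₁.hom = e₁.hom ≫ a g := by
    apply MorphismProperty.Over.Hom.ext
    apply hr.hom_ext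
    · rw [MorphismProperty.Comma.comp_left, MorphismProperty.Comma.comp_left, Category.assoc, he₁,
        map_left_proj, Category.assoc, ← hβ, ← Category.assoc, he₁]
      rfl
    · have h3 := hom_w ((FEt.restrict (c.π.app j)).map (ρ g).hom ≫ e₁.hom)
      have h4 := hom_w (e₁.hom ≫ a g)
      exact h3.trans h4.symm
  rw [Iso.trans_hom, ← Category.assoc, h2]
  rw [ha]
  simp

end Groth.Agent.Pi1.H383.ActDesc
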