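import Groth.Agent.Pi1.H383.TameAlong
import Groth.Agent.Pi1.H383.GalDesc
import Groth.Agent.Pi1.H382.Assemble
import Groth.Agent.Pi1.H416.PrincDesc

/-!
# Specialisation of prime-to-`p` Galois covers
-/

set_option autoImplicit false
set_option linter.unusedSectionVars false

universe u v

open CategoryTheory CategoryTheory.Limits AlgebraicGeometry IsLocalRing

namespace Groth.Agent.Pi1.H383.SpecPrime

open Groth.Agent.Pi1.H382.StalkDvr Groth.Agent.Pi1.H382.Abh Groth.Agent.Pi1.H382.Desc

section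

variable {V K : Type u} [CommRing V] [IsDomain V] [IsDiscreteValuationRing V] [Field K]
  [Algebra V K] [IsFractionRing V K] {Y Y₀ : Scheme.{u}} {p : Y ⟶ Spec (CommRingCat.of V)}
  {g : Y₀ ⟶ Y} {k : Y₀ ⟶ Spec (CommRingCat.of K)}

/-- The local ring at the generic point of the special fibre is a discrete valuation ring. -/
theorem isDiscreteValuationRing_stalk [Smooth p] {ϖ : V} (hϖ : Irreducible ϖ) {ξ : Y}
    (hξ : p ξ = closedPoint V) (hgen : ∀ y : Y, p y = closedPoint V → ξ ⤳ y) :
    ∃ _ : IsDomain (Y.presheaf.stalk ξ), IsDiscreteValuationRing (Y.presheaf.stalk ξ) := by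
  have hreg := isRegularLocalRing p ξ
  have hdom := isDomain p ξ
  have hmax := maximalIdeal_eq p hϖ hξ hgen
  have hne : sm p ξ ϖ ≠ 0 := by
    intro h
    exact hϖ.ne_zero (sm_injective p ξ (h.trans (map_zero _).symm))
  have hnf : ¬ IsField (Y.presheaf.stalk ξ) := by
    rw [IsLocalRing.isField_iff_maximalIdeal_eq, hmax, Ideal.span_singleton_eq_bot]
    exact hne
  refine ⟨hdom, ((IsDiscreteValuationRing.TFAE (Y.presheaf.stalk ξ) hnf).out 4 0).mp ?_⟩
  exact ⟨_, hmax⟩

/-- Principal covers of order prime to the residue characteristic are tame along the special fibre. -/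
theorem tameAt [Smooth p] (hG : IsPullback g k p (Spec.map (CommRingCat.ofHom (algebraMap V K))))
    {ϖ : V} (hϖ : Irreducible ϖ) {ξ : Y} (hξ : p ξ = closedPoint V)
    (hgen : ∀ y : Y, p y = closedPoint V → ξ ⤳ y) (W₀ : FEt.Cat Y₀) (G : Type v) [Group G] [Finite G]
    (ρ : G →* Aut W₀) (hρ : SGA1t.IsPrincipal G W₀ ρ) (q : ℕ) [Fact q.Prime]
    (hq : (q : V) ∈ maximalIdeal V) (hcop : (Nat.card G).Coprime q) : TameAt hG hϖ hξ W₀ := by
  obtain ⟨hdom, hdvr⟩ := isDiscreteValuationRing_stalk hϖ hξ hgen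
  have hpr : ∀ i, (Ideal.span {fam p ϖ ξ i}).IsPrime := fun _ => isPrime_span p hϖ hξ
  have hne : ∀ i, fam p ϖ ξ i ≠ 0 := by
    intro i h
    exact hϖ.ne_zero (sm_injective p ξ (h.trans (map_zero _).symm))
  have hq' : (q : Y.presheaf.stalk ξ) ∈ maximalIdeal (Y.presheaf.stalk ξ) := by
    rw [hϖ.maximalIdeal_eq, Ideal.mem_span_singleton] at hq
    obtain ⟨c, hc⟩ := hq
    have h1 : (q : Y.presheaf.stalk ξ) = sm p ξ ϖ * sm p ξ c := by
      rw [← map_mul, ← hc, map_natCast]
    rw [h1]
    exact Ideal.mul_mem_right _ _ (sm_mem_maximalIdeal p hϖ hξ)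
  exact TameAlong.isTameAlong (fam p ϖ ξ) hne q hq' G
    ((FEt.restrict (jmap hG hϖ ξ)).obj W₀) (PrincBC.bcAction (jmap hG hϖ ξ) ρ)
    (PrincBC.isPrincipal_bc (jmap hG hϖ ξ) G W₀ ρ hρ) hcop

end

/-- Principal covers of order prime to `p` of the geometric generic fibre come from the total space. -/
theorem mem_essImage (A : Type u) [CommRing A] [IsDomain A]
    [IsDiscreteValuationRing A] [HenselianLocalRing A] [IsSepClosed (ResidueField A)]
    (p : ℕ) [Fact p.Prime] [CharP (ResidueField A) p]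
    (Ω : Type u) [Field Ω] [IsAlgClosed Ω] [Algebra A Ω] (hinj : Function.Injective (algebraMap A Ω))
    [Algebra.IsAlgebraic A Ω]
    {X : Scheme.{u}} (f : X ⟶ Spec (CommRingCat.of A)) [IsProper f] [Smooth f]
    (hfib : ∀ (K : Type u) [Field K] [IsAlgClosed K]
      (s : Spec (CommRingCat.of K) ⟶ Spec (CommRingCat.of A)), ConnectedSpace ↥(pullback f s))
    (G : Type v) [Group G] [Finite G] (Z : FEt.Cat (pullback f (toBase A Ω))) (ρ' : G →* Aut Z)
    (hZ : SGA1t.IsPrincipal G Z ρ') (hcop : (Nat.card G).Coprime p) :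
    (FEt.restrict (pullback.fst f (toBase A Ω))).essImage Z := by
  have : FaithfulSMul A Ω := (faithfulSMul_iff_algebraMap_injective A Ω).mpr hinj
  let _ : Algebra (FractionRing A) Ω := FractionRing.liftAlgebra A Ω
  have : IsScalarTower A (FractionRing A) Ω := FractionRing.isScalarTower_liftAlgebra A Ω
  have : Algebra.IsAlgebraic (FractionRing A) Ω :=
    IsFractionRing.comap_isAlgebraic_iff.mp (inferInstance : Algebra.IsAlgebraic A Ω)
  obtain ⟨L, _, W₀, ρ, hρ, e, -⟩ := GalDesc.exists_principal A (FractionRing A) Ω f G Z ρ' hZ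
  refine Functor.essImage.ofIso e (H382.Assemble.mem_essImage f hfib L W₀ ?_)
  intro _ _ ϖ hϖ ξ hξ hgen
  have hp0 : (p : A) ∈ maximalIdeal A := by
    rw [← residue_eq_zero_iff, map_natCast]
    exact CharP.cast_eq_zero _ p
  have hloc : IsLocalHom (algebraMap A (integralClosure A L)) :=
    (algebraMap_isIntegral_iff.mpr inferInstance).isLocalHom
      (H382.DvrExt.injective_algebraMap_integralClosure A (FractionRing A) L)
  have hp1 : (p : integralClosure A L) ∈ maximalIdeal (integralClosure A L) := by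
    have h1 := ((local_hom_TFAE (algebraMap A (integralClosure A L))).out 0 4).mp hloc
    have h2 : (p : A) ∈ (maximalIdeal (integralClosure A L)).comap
      (algebraMap A (integralClosure A L)) := by rw [h1]; exact hp0
    rw [Ideal.mem_comap, map_natCast] at h2
    exact h2
  exact tameAt _ hϖ hξ hgen W₀ G ρ hρ p hp1 hcop

/-- Galois covers of order prime to `p` of the geometric generic fibre come from the total space. -/
theorem mem_essImage_of_isGaloisCover (A : Type u) [CommRing A] [IsDomain A]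
    [IsDiscreteValuationRing A] [HenselianLocalRing A] [IsSepClosed (ResidueField A)]
    (p : ℕ) [Fact p.Prime] [CharP (ResidueField A) p]
    (Ω : Type u) [Field Ω] [IsAlgClosed Ω] [Algebra A Ω] (hinj : Function.Injective (algebraMap A Ω))
    [Algebra.IsAlgebraic A Ω]
    {X : Scheme.{u}} (f : X ⟶ Spec (CommRingCat.of A)) [IsProper f] [Smooth f]
    (hfib : ∀ (K : Type u) [Field K] [IsAlgClosed K]
      (s : Spec (CommRingCat.of K) ⟶ Spec (CommRingCat.of A)), ConnectedSpace ↥(pullback f s))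
    (Z : FEt.Cat (pullback f (toBase A Ω))) (hZ : PiSp.IsGaloisCover Z)
    (hcop : (Nat.card (Aut Z)).Coprime p) :
    (FEt.restrict (pullback.fst f (toBase A Ω))).essImage Z := by
  have hconn : ConnectedSpace ↥(pullback f (toBase A Ω)) := hfib Ω _
  have hfin : Finite (Aut Z) := by
    refine Nat.finite_of_card_ne_zero fun h0 => ?_
    rw [h0, Nat.coprime_zero_left] at hcop
    exact (Fact.out : p.Prime).one_lt.ne' hcop
  exact mem_essImage A p Ω hinj f hfib (Aut Z) Z (MonoidHom.id _)
    (GalPrinc.isPrincipal_of_isGaloisCover Z hZ) hcop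

end Groth.Agent.Pi1.H383.SpecPrime
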