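import Groth.Agent.Etalg.RamGalois

/-!
A finite Galois extension of the fraction field of a discrete valuation ring whose degree is prime to
the residue characteristic is tamely ramified.
-/

set_option autoImplicit false
universe u
open IsLocalRing EtRam
open Groth.Agent.Etalg.InertiaWild Groth.Agent.Etalg.RamCrit

namespace Groth.Agent.Pi1.H383.TameGal

/-- A finite Galois extension `M/K` of order prime to the residue characteristic of the DVR `A` (with fraction field
`K`) is tamely ramified with respect to `A`. -/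
theorem isTamelyRamified_of_isGalois (A : Type u) {K M : Type u} [CommRing A] [IsDomain A]
    [IsDiscreteValuationRing A] [Field K] [Algebra A K] [IsFractionRing A K] [Field M] [Algebra K M]
    [FiniteDimensional K M] [IsGalois K M]
    (h : ∀ p : ℕ, p.Prime → CharP (ResidueField A) p → (Nat.card (M ≃ₐ[K] M)).Coprime p) :
    IsTamelyRamified A ((algebraMap K M).comp (algebraMap A K)) := by
  let _ : Algebra A M := ((algebraMap K M).comp (algebraMap A K)).toAlgebra
  have hAKM : IsScalarTower A K M := IsScalarTower.of_algebraMap_eq' rfl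
  let B := integralClosure A M
  let _ : MulSemiringAction (M ≃ₐ[K] M) B := IsIntegralClosure.MulSemiringAction A K M B
  have hfracB : IsFractionRing B M := IsIntegralClosure.isFractionRing_of_finite_extension A K M B
  have hdedB : IsDedekindDomain B := IsIntegralClosure.isDedekindDomain A K M B
  have hintB : Algebra.IsIntegral A B := IsIntegralClosure.isIntegral_algebra A M
  have hG1 : IsGaloisGroup (M ≃ₐ[K] M) A B := IsGaloisGroup.of_isFractionRing (M ≃ₐ[K] M) A B K M
  have hfaith : FaithfulSMul (M ≃ₐ[K] M) B := IsGaloisGroup.faithful A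
  obtain ⟨q, hq⟩ := ExpChar.exists (A ⧸ maximalIdeal A)
  have h1 := (tame_crit (A := A) (M := M) K B (M ≃ₐ[K] M) M B).mpr
  refine h1 fun m hm => ?_
  have hover : m.LiesOver (maximalIdeal A) := by
    have h2 : (m.comap (algebraMap A B)).IsMaximal :=
      Ideal.isMaximal_comap_of_isIntegral_of_isMaximal m
    have h3 : m.comap (algebraMap A B) = maximalIdeal A := IsLocalRing.eq_maximalIdeal h2
    exact ⟨h3.symm⟩
  have hexp : ExpChar (B ⧸ m) q :=
    expChar_of_injective_algebraMap (FaithfulSMul.algebraMap_injective (A ⧸ maximalIdeal A) (B ⧸ m)) q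
  have hmi : ⨅ i : ℕ, m ^ i = ⊥ :=
    Ideal.iInf_pow_eq_bot_of_isDomain m (Ideal.IsMaximal.ne_top inferInstance)
  obtain ⟨a, ha⟩ := card_wild_eq_pow (G := (M ≃ₐ[K] M)) m hmi q
  have hcop : (Nat.card (M ≃ₐ[K] M)).Coprime q := by
    rcases hq with _ | ⟨hqp⟩
    · exact Nat.coprime_one_right _
    · have hc : CharP (ResidueField A) q := inferInstanceAs (CharP (A ⧸ maximalIdeal A) q)
      exact h q hqp hc
  have hdvd : Nat.card (wild (M ≃ₐ[K] M) m) ∣ Nat.card (M ≃ₐ[K] M) := Subgroup.card_subgroup_dvd_card _
  have hone : Nat.card (wild (M ≃ₐ[K] M) m) = 1 := by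
    have h4 : (Nat.card (wild (M ≃ₐ[K] M) m)).Coprime (Nat.card (wild (M ≃ₐ[K] M) m)) := by
      conv_rhs => rw [ha]
      exact (hcop.coprime_dvd_left hdvd).pow_right a
    exact (Nat.coprime_self _).mp h4
  have hbot : wild (M ≃ₐ[K] M) m = ⊥ := Subgroup.card_eq_one.mp hone
  rw [hbot]
  exact bot_le

end Groth.Agent.Pi1.H383.TameGal
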