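import Groth.Agent.Pi1.H383.TameGal
import Groth.Agent.Pi1.H421.GalAlg
import Mathlib.RingTheory.Unramified.Field
import Mathlib.RingTheory.Etale.Field

/-!
A finite etale algebra over the fraction field of a discrete valuation ring with a finite group of order prime
to the residue characteristic acting simply transitively on geometric points is tamely ramified.
-/

set_option autoImplicit false
universe u v
open IsLocalRing EtRam
open Groth.Agent.Pi1.H421.GalAlg

namespace Groth.Agent.Pi1.H383.TameRes

section Field

variable {K B : Type u} [Field K] [CommRing B] [Algebra K B] {G : Type v} [Group G] [Finite G]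
  [MulSemiringAction G B] [SMulCommClass G K B] {M : Type u} [Field M] [Algebra K M] [Algebra B M]
  [IsScalarTower K B M]

include G in
omit [SMulCommClass G K B] in
variable (G) in
/-- If `K = B^G` then every residue field of `B` is normal over `K`. -/
theorem normal [Algebra.IsInvariant K B G] (hπ : Function.Surjective (algebraMap B M)) :
    Normal K M := by
  cases nonempty_fintype G
  have key : ∀ x : M, ∃ P : Polynomial K, P.Monic ∧ Polynomial.aeval x P = 0 ∧
      (P.map (algebraMap K M)).Splits := by
    intro x
    obtain ⟨b, rfl⟩ := hπ x
    obtain ⟨P, hP⟩ := Algebra.IsInvariant.charpoly_mem_lifts K B G b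
    have hP' : P.map (algebraMap K B) = MulSemiringAction.charpoly G b := hP
    have h1 : P.map (algebraMap K M) = (MulSemiringAction.charpoly G b).map (algebraMap B M) := by
      rw [← hP', Polynomial.map_map, ← IsScalarTower.algebraMap_eq]
    refine ⟨P, ?_, ?_, ?_⟩
    · have h3 : (P.map (algebraMap K M)).Monic := by
        rw [h1]; exact (MulSemiringAction.monic_charpoly G b).map _
      exact Polynomial.monic_of_injective (algebraMap K M).injective h3
    · rw [Polynomial.aeval_def, ← Polynomial.eval_map, h1, Polynomial.eval_map,
        Polynomial.eval₂_hom, MulSemiringAction.eval_charpoly, map_zero]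
    · rw [h1]
      exact (MulSemiringAction.splits_charpoly G b).map _
  rw [normal_iff]
  intro x
  obtain ⟨P, h1, h2, h3⟩ := key x
  refine ⟨⟨P, h1, h2⟩, h3.of_dvd (h1.map _).ne_zero (Polynomial.map_dvd _ (minpoly.dvd K x h2))⟩

omit [Finite G] [SMulCommClass G K B] in
/-- The Galois group of a residue field of `B` embeds into `G`. -/
theorem exists_hom (hf : IsFreeGeom B G) (ht : IsTransGeom K B G)
    (hπ : Function.Surjective (algebraMap B M)) :
    ∃ φ : (M ≃ₐ[K] M) →* G, Function.Injective φ := by
  let s : B →+* AlgebraicClosure M := (algebraMap M (AlgebraicClosure M)).comp (algebraMap B M)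
  have ex : ∀ f : M ≃ₐ[K] M, ∃ g : G, ∀ b, f (algebraMap B M b) = algebraMap B M (g • b) := by
    intro f
    let t : B →+* AlgebraicClosure M :=
      (algebraMap M (AlgebraicClosure M)).comp ((f : M →+* M).comp (algebraMap B M))
    obtain ⟨g, hg⟩ := ht (AlgebraicClosure M) s t (fun a => by
      change algebraMap M _ (algebraMap B M (algebraMap K B a)) =
        algebraMap M _ (f (algebraMap B M (algebraMap K B a)))
      rw [← IsScalarTower.algebraMap_apply K B M, f.commutes])
    exact ⟨g, fun b => (algebraMap M (AlgebraicClosure M)).injective (hg b)⟩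
  have uniq : ∀ g g' : G, (∀ b, algebraMap B M (g • b) = algebraMap B M (g' • b)) → g = g' := by
    intro g g' h
    have h1 := hf (AlgebraicClosure M) s (g * g'⁻¹) (fun b => by
      change algebraMap M _ (algebraMap B M _) = algebraMap M _ (algebraMap B M _)
      rw [mul_smul, h, smul_inv_smul])
    exact mul_inv_eq_one.mp h1
  choose φ hφ using ex
  refine ⟨MonoidHom.mk' φ fun f₁ f₂ => uniq _ _ fun b => ?_, fun f₁ f₂ h => ?_⟩
  · rw [← hφ, mul_smul, ← hφ, ← hφ, AlgEquiv.mul_apply]
  · ext x
    obtain ⟨b, rfl⟩ := hπ x
    have h' : φ f₁ = φ f₂ := h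
    rw [hφ, hφ, h']

end Field

/-- A finite etale algebra `B` over the fraction field `K` of a discrete valuation ring `A` with an action of a finite
group `G` of order prime to the residue characteristic, simply transitive on geometric points, is tamely ramified at each
of its points. -/
theorem isTamelyRamified (A : Type u) {K B : Type u} [CommRing A] [IsDomain A]
    [IsDiscreteValuationRing A] [Field K] [Algebra A K] [IsFractionRing A K] [CommRing B] [Algebra K B]
    [Module.Finite K B] [Algebra.FormallyUnramified K B] {G : Type v} [Group G] [Finite G]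
    [MulSemiringAction G B] [SMulCommClass G K B] (hf : IsFreeGeom B G) (ht : IsTransGeom K B G)
    (h : ∀ p : ℕ, p.Prime → CharP (ResidueField A) p → (Nat.card G).Coprime p)
    (q : Ideal B) [q.IsPrime] :
    IsTamelyRamified A ((algebraMap B q.ResidueField).comp ((algebraMap K B).comp (algebraMap A K))) := by
  have hB : Nontrivial B := ⟨0, 1, fun h01 => (Ideal.IsPrime.ne_top ‹q.IsPrime›)
    ((Ideal.eq_top_iff_one q).mpr (h01 ▸ q.zero_mem))⟩
  have hart : IsArtinianRing B := IsArtinianRing.of_finite K B
  have hmax : q.IsMaximal := inferInstance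
  have hπ : Function.Surjective (algebraMap B q.ResidueField) :=
    Ideal.algebraMap_residueField_surjective q
  have hinv : Algebra.IsInvariant K B G := isInvariant K hf ht
  have hnorm : Normal K q.ResidueField := normal (B := B) G hπ
  have hfin : FiniteDimensional K q.ResidueField :=
    Module.Finite.of_surjective (IsScalarTower.toAlgHom K B q.ResidueField).toLinearMap hπ
  have hunr : Algebra.FormallyUnramified K q.ResidueField :=
    Algebra.FormallyUnramified.of_surjective (IsScalarTower.toAlgHom K B q.ResidueField) hπ
  have hsep : Algebra.IsSeparable K q.ResidueField :=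
    Algebra.FormallyUnramified.isSeparable K q.ResidueField
  have hgal : IsGalois K q.ResidueField := ⟨⟩
  obtain ⟨φ, hφ⟩ := exists_hom (K := K) (M := q.ResidueField) hf ht hπ
  have h1 := TameGal.isTamelyRamified_of_isGalois A (K := K) (M := q.ResidueField) (fun p hp hc =>
    (h p hp hc).coprime_dvd_left (Subgroup.card_dvd_of_injective φ hφ))
  rw [IsScalarTower.algebraMap_eq K B q.ResidueField] at h1
  exact h1

end Groth.Agent.Pi1.H383.TameRes
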